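import Cfsg.Agent.H776.Co.Lin
import Cfsg.Agent.LThreeCo1.SylCls
import Cfsg.Agent.H777.PGrp

/-!
# Homomorphisms from the model `P` given by generators and relations (helper777)
-/

set_option autoImplicit false
set_option linter.style.longLine false

namespace Cfsg.Agent.H777.Co3

open Subgroup Cfsg.Agent.H776.Co Cfsg.Agent.H776.Co.P Cfsg.Agent.LThreeCo1.AGrp

variable {G : Type*} [Group G]

/-- coordinates of the `A`-part -/
def cr (p : P) : Lin.V := ![p.m11, p.m12, p.m22, p.m13, p.m23, p.m33]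

theorem cr_mul (p q : P) : cr (p * q) = cr p + Lin.tf p.a p.b p.c (cr q) := by
  funext i
  fin_cases i <;> simp [cr, Lin.tf]

/-- relations between the images of the root elements -/
structure Rels (a : Fin 6 → G) (z y x : G) : Prop where
  A : Hyp a
  z3 : z ^ 3 = 1
  y3 : y ^ 3 = 1
  x3 : x ^ 3 = 1
  zy : Commute z y
  zx : Commute z x
  xy : x * y = z * y * x
  hx : ∀ j, x * a j * x⁻¹ = Ph a (Lin.tf 1 0 0 (Pi.single j 1))
  hy : ∀ j, y * a j * y⁻¹ = Ph a (Lin.tf 0 1 0 (Pi.single j 1))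
  hz : ∀ j, z * a j * z⁻¹ = Ph a (Lin.tf 0 0 1 (Pi.single j 1))

variable {a : Fin 6 → G} {z y x : G}

theorem lin_tf (s t u : ZMod 3) (v : Lin.V) : lin (fun j => Lin.tf s t u (Pi.single j 1)) v = Lin.tf s t u v := by
  funext i
  fin_cases i <;> simp [lin, Lin.tf] <;> ring

theorem conj_tf (H : Hyp a) {g : G} {s t u : ZMod 3} (h : ∀ j, g * a j * g⁻¹ = Ph a (Lin.tf s t u (Pi.single j 1)))
    (v : Lin.V) : g * Ph a v * g⁻¹ = Ph a (Lin.tf s t u v) := by
  rw [H.conj h, lin_tf]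

theorem tf_congr {s t u s' t' u' : ZMod 3} (h1 : s = s') (h2 : t = t') (h3 : u = u') (v : Lin.V) :
    Lin.tf s t u v = Lin.tf s' t' u' v := by rw [h1, h2, h3]

theorem conj_x (H : Rels a z y x) (n : ℕ) (v : Lin.V) : x ^ n * Ph a v * (x ^ n)⁻¹ = Ph a (Lin.tf n 0 0 v) := by
  induction n with
  | zero => simp [Lin.tf_zero]
  | succ n ih =>
    have h1 : x ^ (n + 1) * Ph a v * (x ^ (n + 1))⁻¹ = x * (x ^ n * Ph a v * (x ^ n)⁻¹) * x⁻¹ := by
      rw [pow_succ']; group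
    rw [h1, ih, conj_tf H.A H.hx, Lin.tf_tf]
    exact congrArg _ (tf_congr (by rw [Nat.cast_succ, add_comm]) (by simp) (by simp) v)

theorem conj_y (H : Rels a z y x) (n : ℕ) (v : Lin.V) : y ^ n * Ph a v * (y ^ n)⁻¹ = Ph a (Lin.tf 0 n 0 v) := by
  induction n with
  | zero => simp [Lin.tf_zero]
  | succ n ih =>
    have h1 : y ^ (n + 1) * Ph a v * (y ^ (n + 1))⁻¹ = y * (y ^ n * Ph a v * (y ^ n)⁻¹) * y⁻¹ := by
      rw [pow_succ']; group
    rw [h1, ih, conj_tf H.A H.hy, Lin.tf_tf]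
    exact congrArg _ (tf_congr (by simp) (by rw [Nat.cast_succ, add_comm]) (by simp) v)

theorem conj_z (H : Rels a z y x) (n : ℕ) (v : Lin.V) : z ^ n * Ph a v * (z ^ n)⁻¹ = Ph a (Lin.tf 0 0 n v) := by
  induction n with
  | zero => simp [Lin.tf_zero]
  | succ n ih =>
    have h1 : z ^ (n + 1) * Ph a v * (z ^ (n + 1))⁻¹ = z * (z ^ n * Ph a v * (z ^ n)⁻¹) * z⁻¹ := by
      rw [pow_succ']; group
    rw [h1, ih, conj_tf H.A H.hz, Lin.tf_tf]
    exact congrArg _ (tf_congr (by simp) (by simp) (by rw [Nat.cast_succ, zero_mul, add_zero, add_comm]) v)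

/-- the unipotent part -/
def psi (z y x : G) (p : P) : G := z ^ p.c.val * (y ^ p.b.val * x ^ p.a.val)

theorem conj_psi (H : Rels a z y x) (p : P) (v : Lin.V) :
    psi z y x p * Ph a v * (psi z y x p)⁻¹ = Ph a (Lin.tf p.a p.b p.c v) := by
  have h1 : psi z y x p * Ph a v * (psi z y x p)⁻¹ = z ^ p.c.val * (y ^ p.b.val * (x ^ p.a.val * Ph a v * (x ^ p.a.val)⁻¹) *
      (y ^ p.b.val)⁻¹) * (z ^ p.c.val)⁻¹ := by
    unfold psi; group
  rw [h1, conj_x H, conj_y H, conj_z H, Lin.tf_tf, Lin.tf_tf]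
  congr 2
  · simp
  · simp
  · simp

theorem pow_xy (H : Rels a z y x) (m n : ℕ) : x ^ m * y ^ n = z ^ (m * n) * (y ^ n * x ^ m) := by
  have h1 : ∀ n : ℕ, x * y ^ n = z ^ n * (y ^ n * x) := by
    intro n
    induction n with
    | zero => simp
    | succ n ih =>
      calc x * y ^ (n + 1) = (x * y ^ n) * y := by rw [pow_succ]; group
        _ = z ^ n * y ^ n * (x * y) := by rw [ih]; group
        _ = z ^ n * (y ^ n * z) * y * x := by rw [H.xy]; group
        _ = z ^ n * (z * y ^ n) * y * x := by rw [((H.zy.pow_right n).eq).symm]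
        _ = z ^ (n + 1) * (y ^ (n + 1) * x) := by rw [pow_succ, pow_succ]; group
  induction m with
  | zero => simp
  | succ m ih =>
    calc x ^ (m + 1) * y ^ n = x * (x ^ m * y ^ n) := by rw [pow_succ']; group
      _ = (x * z ^ (m * n)) * (y ^ n * x ^ m) := by rw [ih]; group
      _ = (z ^ (m * n) * x) * (y ^ n * x ^ m) := by rw [(H.zx.pow_left (m * n)).eq]
      _ = z ^ (m * n) * (x * y ^ n) * x ^ m := by group
      _ = z ^ (m * n) * (z ^ n * (y ^ n * x)) * x ^ m := by rw [h1]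
      _ = z ^ ((m + 1) * n) * (y ^ n * x ^ (m + 1)) := by
        rw [add_mul, one_mul, pow_add, pow_succ']; group

theorem pow_val_mul {g : G} (hg : g ^ 3 = 1) (s t : ZMod 3) : g ^ (s * t).val = g ^ (s.val * t.val) := by
  rw [ZMod.val_mul]
  have h := Nat.mod_add_div (s.val * t.val) 3
  conv_rhs => rw [← h, pow_add, pow_mul, hg, one_pow, mul_one]

theorem psi_mul (H : Rels a z y x) (p q : P) : psi z y x (p * q) = psi z y x p * psi z y x q := by
  unfold psi
  rw [mul_a, mul_b, mul_c, pow_val_add H.x3, pow_val_add H.y3, pow_val_add H.z3, pow_val_add H.z3, pow_val_mul H.z3]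
  have h1 : Commute (z ^ q.c.val) (y ^ p.b.val * x ^ p.a.val) :=
    ((H.zy.pow_pow _ _)).mul_right (H.zx.pow_pow _ _)
  have h2 := pow_xy H p.a.val q.b.val
  have h3 : Commute (z ^ (p.a.val * q.b.val)) (y ^ p.b.val) := H.zy.pow_pow _ _
  symm
  calc z ^ p.c.val * (y ^ p.b.val * x ^ p.a.val) * (z ^ q.c.val * (y ^ q.b.val * x ^ q.a.val))
      = z ^ p.c.val * ((y ^ p.b.val * x ^ p.a.val) * z ^ q.c.val) * (y ^ q.b.val * x ^ q.a.val) := by group
    _ = z ^ p.c.val * (z ^ q.c.val * (y ^ p.b.val * x ^ p.a.val)) * (y ^ q.b.val * x ^ q.a.val) := by rw [h1.eq]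
    _ = z ^ p.c.val * z ^ q.c.val * y ^ p.b.val * (x ^ p.a.val * y ^ q.b.val) * x ^ q.a.val := by group
    _ = z ^ p.c.val * z ^ q.c.val * y ^ p.b.val * (z ^ (p.a.val * q.b.val) * (y ^ q.b.val * x ^ p.a.val)) * x ^ q.a.val := by
      rw [h2]
    _ = z ^ p.c.val * z ^ q.c.val * (y ^ p.b.val * z ^ (p.a.val * q.b.val)) * (y ^ q.b.val * x ^ p.a.val) * x ^ q.a.val := by
      group
    _ = z ^ p.c.val * z ^ q.c.val * (z ^ (p.a.val * q.b.val) * y ^ p.b.val) * (y ^ q.b.val * x ^ p.a.val) * x ^ q.a.val := by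
      rw [h3.eq]
    _ = z ^ p.c.val * z ^ q.c.val * z ^ (p.a.val * q.b.val) * (y ^ p.b.val * y ^ q.b.val * (x ^ p.a.val * x ^ q.a.val)) := by
      group

/-- the homomorphism -/
def mkHom (H : Rels a z y x) : P →* G where
  toFun p := Ph a (cr p) * psi z y x p
  map_one' := by
    have h1 : cr 1 = 0 := by funext i; fin_cases i <;> rfl
    rw [h1, Ph_zero]
    simp [psi]
  map_mul' p q := by
    rw [cr_mul, H.A.add, psi_mul H, ← conj_psi H]
    group

theorem mkHom_apply (H : Rels a z y x) (p : P) : mkHom H p = Ph a (cr p) * psi z y x p := rfl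

/-- a central element of `P` lies in `W1` -/
theorem center_P {p : P} (hp : ∀ q : P, p * q = q * p) : p ∈ W1 := by
  have h1 := hp ⟨1, 0, 0, 0, 0, 0, 0, 0, 0⟩
  have h2 := hp ⟨0, 1, 0, 0, 0, 0, 0, 0, 0⟩
  have h3 := hp ⟨0, 0, 1, 0, 0, 0, 0, 0, 0⟩
  have h4 := hp ⟨0, 0, 0, 0, 0, 0, 0, 0, 1⟩
  have h5 := hp ⟨0, 0, 0, 0, 0, 0, 1, 0, 0⟩
  simp [P.ext_iff] at h1 h2 h3 h4 h5
  have h6 : (2 : ZMod 3) * p.m12 = 0 := by
    have := h1.2.2.1
    rw [h1.2.2.2.1] at this
    linear_combination -this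
  have h7 : p.m12 = 0 := by
    have h8 : (3 : ZMod 3) = 0 := rfl
    linear_combination 2 * h6 - p.m12 * h8
  exact ⟨h2.2.1, h1.2.1, h4.1, h7, h1.2.2.2.1, h2.2.2.1, h1.2.2.2.2, h2.2.2.2.2⟩

theorem val_or : ∀ t : ZMod 3, t ≠ 0 → t.val = 1 ∨ t.val = 2 := by decide

theorem mkHom_injective (H : Rels a z y x) (h0 : a 0 ≠ 1) : Function.Injective (mkHom H) := by
  rw [← MonoidHom.ker_eq_bot_iff]
  by_contra hne
  have : Fact (Nat.Prime 3) := ⟨Nat.prime_three⟩
  obtain ⟨p, hp, hp1, hc⟩ := Cfsg.Agent.H777.PGrp.inf_center_ne_bot (p := 3) isPGroup_P hne inferInstance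
  obtain ⟨k1, k2, k3, k4, k5, k6, k7, k8⟩ := center_P fun q => (hc q).symm
  have h1 : mkHom H p = 1 := hp
  have h2 : mkHom H p = a 0 ^ p.m11.val := by
    rw [mkHom_apply]
    simp [Ph, psi, cr, k1, k2, k3, k4, k5, k6, k7, k8]
  rw [h2] at h1
  have h3 : p.m11 ≠ 0 := fun h => hp1 (by ext <;> simp [h, k1, k2, k3, k4, k5, k6, k7, k8])
  have h5 := H.A.cube 0
  rcases val_or _ h3 with h | h
  · rw [h, pow_one] at h1
    exact h0 h1
  · rw [h] at h1
    rw [pow_succ, h1, one_mul] at h5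
    exact h0 h5

/-- equality of `φ ∘ h` and conjugation on generators -/
theorem transfer (φ : P →* G) (g : G) (h : P → P) (R : Subgroup P) (S : Set P) (hS : ∀ s ∈ S, s ∈ R)
    (hg : ∀ s ∈ S, g * φ s = φ (h s) * g) (hR : R ≤ closure S)
    (hm : ∀ x ∈ R, ∀ y ∈ R, h (x * y) = h x * h y) : ∀ x ∈ R, φ (h x) = g * φ x * g⁻¹ := by
  have hSR : closure S ≤ R := (closure_le _).2 hS
  have h1 : h 1 = 1 := by
    have := hm 1 R.one_mem 1 R.one_mem
    rw [mul_one] at this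
    exact (left_eq_mul.1 this)
  intro x hx
  replace hx := hR hx
  induction hx using closure_induction with
  | mem s hs => rw [eq_mul_inv_iff_mul_eq]; exact (hg s hs).symm
  | one => rw [h1, map_one]; group
  | mul x y hx hy ihx ihy => rw [hm x (hSR hx) y (hSR hy), map_mul, map_mul, ihx, ihy]; group
  | inv x hx ih =>
    have h2 : h x⁻¹ = (h x)⁻¹ := by
      apply eq_inv_of_mul_eq_one_left
      rw [← hm _ (R.inv_mem (hSR hx)) _ (hSR hx), inv_mul_cancel, h1]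
    rw [h2, map_inv, map_inv, ih]; group

end Cfsg.Agent.H777.Co3
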