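import Cfsg.Agent.H777.Co3.Mat
import Cfsg.Agent.H777.Co3.Phi

/-!
# The homomorphism `P → Co0` and the elements inducing `tor`, `w1`, `w2 2`, `w3` (helper777)
-/

set_option autoImplicit false
set_option linter.style.longLine false
set_option maxRecDepth 20000

namespace Cfsg.Agent.H777.Co3

open Subgroup Cfsg.Agent.H776.Co Cfsg.Agent.H776.Co.P Cfsg.Agent.LThreeCo1.AGrp
open Cfsg Cfsg.Agent.LThreeCo1.Ev Cfsg.Agent.SporadicStructure.Co0Matrix Cfsg.Agent.CoOneType.CoEval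

/-- words of the generators of `A` -/
def aw (i : ℕ) : List ℕ := [[2, 3, 4], [3, 4, 4], [2, 3, 3, 4, 4], [2, 2, 4, 6], [1, 1, 3, 3, 5], [1]].getD i []

/-- repetition -/
def rp (n : ℕ) (l : List ℕ) : List ℕ := (List.replicate n l).flatten

/-- word of a vector -/
def wv (v : Lin.V) : List ℕ :=
  rp (v 0).val (aw 0) ++ (rp (v 1).val (aw 1) ++ (rp (v 2).val (aw 2) ++ (rp (v 3).val (aw 3) ++
    (rp (v 4).val (aw 4) ++ rp (v 5).val (aw 5)))))

/-- word of an element of `P` -/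
def wp (p : P) : List ℕ := wv (cr p) ++ (rp p.c.val [9] ++ (rp p.b.val [7, 8] ++ rp p.a.val [7]))

/-- evaluation -/
noncomputable def ev (l : List ℕ) : Co0 := (l.map e).prod

theorem ev_append (l l' : List ℕ) : ev (l ++ l') = ev l * ev l' := by
  unfold ev; rw [List.map_append, List.prod_append]

theorem ev_nil : ev [] = 1 := rfl

theorem ev_rp (n : ℕ) (l : List ℕ) : ev (rp n l) = ev l ^ n := by
  induction n with
  | zero => rw [pow_zero]; rfl
  | succ n ih =>
    have h : rp (n + 1) l = l ++ rp n l := by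
      unfold rp; rw [List.replicate_succ, List.flatten_cons]
    rw [h, ev_append, ih, pow_succ']

theorem ev_eq {l l' : List ℕ} (h : eqB M l l' = true) : ev l = ev l' := eq_of_eqB rep h

/-- the generators of `A` -/
noncomputable def a (i : Fin 6) : Co0 := ev (aw i.val)

theorem ev_wv (v : Lin.V) : ev (wv v) = Ph a v := by
  unfold wv Ph
  simp only [ev_append, ev_rp]
  rfl

theorem k_comm : ((List.range 6).all fun i => (List.range 6).all fun j =>
    eqB M (aw i ++ aw j) (aw j ++ aw i)) = true := by decide +kernel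

theorem k_cube : ((List.range 6).all fun i => eqB M (aw i ++ aw i ++ aw i) []) = true := by decide +kernel

theorem k_ne : neB' M (aw 0) [] = true := by decide +kernel

theorem k_T : (eqB M [9, 9, 9] [] && eqB M [7, 8, 7, 8, 7, 8] [] && eqB M [7, 7, 7] [] && eqB M [9, 7, 8] [7, 8, 9] &&
    eqB M [9, 7] [7, 9] && eqB M [7, 7, 8] [9, 7, 8, 7]) = true := by decide +kernel

theorem k_x : (∀ j : Fin 6, eqB M ([7] ++ aw j) (wv (Lin.tf 1 0 0 (Pi.single j 1)) ++ [7]) = true) := by decide +kernel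
theorem k_y : (∀ j : Fin 6, eqB M ([7, 8] ++ aw j) (wv (Lin.tf 0 1 0 (Pi.single j 1)) ++ [7, 8]) = true) := by decide +kernel
theorem k_z : (∀ j : Fin 6, eqB M ([9] ++ aw j) (wv (Lin.tf 0 0 1 (Pi.single j 1)) ++ [9]) = true) := by decide +kernel

theorem hA : Hyp a where
  comm i j := by
    have h := k_comm
    rw [List.all_eq_true] at h
    have h1 := h i.val (List.mem_range.2 i.2)
    rw [List.all_eq_true] at h1
    have h2 := ev_eq (h1 j.val (List.mem_range.2 j.2))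
    rw [ev_append, ev_append] at h2
    exact h2
  cube i := by
    have h := k_cube
    rw [List.all_eq_true] at h
    have h2 := ev_eq (h i.val (List.mem_range.2 i.2))
    rw [ev_append, ev_append, ev_nil] at h2
    rw [pow_succ, pow_two]
    exact h2

theorem cj_of {g : List ℕ} {l l' : List ℕ} (h : eqB M (g ++ l) (l' ++ g) = true) : ev g * ev l * (ev g)⁻¹ = ev l' := by
  have h1 := ev_eq h
  rw [ev_append, ev_append] at h1
  rw [h1, mul_inv_cancel_right]

theorem rels : Rels a (ev [9]) (ev [7, 8]) (ev [7]) := by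
  have h := k_T
  simp only [Bool.and_eq_true] at h
  obtain ⟨⟨⟨⟨⟨h1, h2⟩, h3⟩, h4⟩, h5⟩, h6⟩ := h
  refine ⟨hA, ?_, ?_, ?_, ?_, ?_, ?_, ?_, ?_, ?_⟩
  · rw [← ev_rp]; exact ev_eq h1
  · rw [← ev_rp]; exact ev_eq h2
  · rw [← ev_rp]; exact ev_eq h3
  · have := ev_eq h4
    show ev [9] * ev [7, 8] = ev [7, 8] * ev [9]
    rw [← ev_append, ← ev_append]; exact this
  · have := ev_eq h5
    show ev [9] * ev [7] = ev [7] * ev [9]
    rw [← ev_append, ← ev_append]; exact this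
  · rw [← ev_append, ← ev_append, ← ev_append]; exact ev_eq h6
  · intro j; rw [← ev_wv]; exact cj_of (k_x j)
  · intro j; rw [← ev_wv]; exact cj_of (k_y j)
  · intro j; rw [← ev_wv]; exact cj_of (k_z j)

/-- the homomorphism -/
noncomputable def phi : P →* Co0 := mkHom rels

theorem phi_eq (p : P) : phi p = ev (wp p) := by
  unfold wp
  rw [ev_append, ev_append, ev_append, ev_wv, ev_rp, ev_rp, ev_rp]
  rfl

theorem phi_injective : Function.Injective phi := by
  refine mkHom_injective rels fun h => ?_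
  exact ne_of_neB' rep k_ne h

/-- generators: `s i` -/
def gs (i : ℕ) : P :=
  [(⟨0, 0, 0, 1, 0, 0, 0, 0, 0⟩ : P), ⟨0, 0, 0, 0, 1, 0, 0, 0, 0⟩, ⟨0, 0, 0, 0, 0, 1, 0, 0, 0⟩, ⟨0, 0, 0, 0, 0, 0, 1, 0, 0⟩,
    ⟨0, 0, 0, 0, 0, 0, 0, 1, 0⟩, ⟨0, 0, 0, 0, 0, 0, 0, 0, 1⟩, ⟨0, 0, 1, 0, 0, 0, 0, 0, 0⟩, ⟨0, 1, 0, 0, 0, 0, 0, 0, 0⟩,
    ⟨1, 0, 0, 0, 0, 0, 0, 0, 0⟩].getD i 1

/-- check that conjugation by the word `g` is `h` on the generators in `L` -/
def chk (g : List ℕ) (h : P → P) (L : List ℕ) : Bool := L.all fun i => eqB M (g ++ wp (gs i)) (wp (h (gs i)) ++ g)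

/-- words of the elements -/
def wt1 : List ℕ := [10, 8, 11, 11, 8, 11, 11, 11, 7, 8, 11, 8, 8]
def wt2 : List ℕ := [8, 11, 7, 11, 11, 8, 11, 8, 7, 11, 8, 11, 11]
def wt3 : List ℕ := [10]
def ww1 : List ℕ := [7, 7, 11, 7, 11, 11, 11, 7, 7, 11, 7, 11]
def ww2 : List ℕ := [8, 11, 8, 11, 7, 8, 11, 8, 7, 7, 11, 7]
def ww3 : List ℕ := [31]

theorem k_t1 : chk wt1 (tor (-1) 1 1) [0, 1, 2, 3, 4, 5, 6, 7, 8] = true := by decide +kernel
theorem k_t2 : chk wt2 (tor 1 (-1) 1) [0, 1, 2, 3, 4, 5, 6, 7, 8] = true := by decide +kernel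
theorem k_t3 : chk wt3 (tor 1 1 (-1)) [0, 1, 2, 3, 4, 5, 6, 7, 8] = true := by decide +kernel
theorem k_w1 : chk ww1 w1 [0, 1, 2, 3, 4, 5, 6, 7] = true := by decide +kernel
theorem k_w2 : chk ww2 (w2 2) [0, 1, 2, 3, 4, 5, 6, 8] = true := by decide +kernel
theorem k_w3 : chk ww3 w3 [0, 1, 2, 3, 4, 6, 7, 8] = true := by decide +kernel

end Cfsg.Agent.H777.Co3
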